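import Mathlib
import Groth.Agent.PerfMor.SrcDescent
import Groth.Agent.S9149

/-!
# The local structure of fppf covers of affine schemes

Near a prime, an fppf algebra is dominated by a finite free algebra followed by a Zariski cover followed by a
finite locally free algebra.
-/

set_option autoImplicit false
set_option linter.style.haveILetI false
set_option backward.isDefEq.respectTransparency.types false

universe u

open TensorProduct

namespace Groth.Agent.FppfRefine

/-- A point of a standard étale algebra lifts to points of the localizations of a finite free algebra. -/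
theorem exists_finite_free_cover {B C : Type u} [CommRing B] [CommRing C] [Algebra B C]
    [Algebra.IsStandardEtale B C] (P : Ideal C) [P.IsPrime] :
    ∃ (W : Type u) (_ : CommRing W) (_ : Algebra B W), Module.Finite B W ∧ Module.Free B W ∧
      Module.FaithfullyFlat B W ∧
      ∀ (w : Ideal W) [w.IsPrime], w.comap (algebraMap B W) = P.comap (algebraMap B C) →
        ∃ (a : W) (_ : a ∉ w) (γ : C →ₐ[B] Localization.Away a),
          (w.map (algebraMap W (Localization.Away a))).comap γ.toRingHom = P := by
  obtain ⟨S⟩ := Algebra.IsStandardEtale.nonempty_standardEtalePresentation (R := B) (S := C)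
  obtain ⟨W, _, _, -, hfin, hfree, hff, s, hs⟩ := Groth.Agent.S9149.result B S.f S.monic_f
  refine ⟨W, inferInstance, inferInstance, hfin, hfree, hff, fun w _ hw => ?_⟩
  let p := P.comap (algebraMap B C)
  haveI : P.LiesOver p := ⟨rfl⟩
  haveI : w.LiesOver p := ⟨hw.symm⟩
  haveI : Algebra.Etale B C := inferInstance
  letI := Localization.AtPrime.algebraOfLiesOver p P
  letI := Localization.AtPrime.algebraOfLiesOver p w
  let K := AlgebraicClosure w.ResidueField
  letI : Algebra p.ResidueField K :=
    ((algebraMap w.ResidueField K).comp (algebraMap p.ResidueField w.ResidueField)).toAlgebra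
  haveI : Algebra.IsAlgebraic p.ResidueField P.ResidueField := Algebra.IsAlgebraic.of_finite _ _
  let θ₀ : P.ResidueField →ₐ[p.ResidueField] K := IsAlgClosed.lift
  let θ : C →+* K := θ₀.toRingHom.comp (algebraMap C P.ResidueField)
  let ι : W →+* K := (algebraMap w.ResidueField K).comp (algebraMap W w.ResidueField)
  have hθB : θ.comp (algebraMap B C) = ι.comp (algebraMap B W) := RingHom.ext fun b => by
    show θ₀ (algebraMap C P.ResidueField (algebraMap B C b)) = algebraMap w.ResidueField K (algebraMap W w.ResidueField _)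
    rw [← IsScalarTower.algebraMap_apply B C P.ResidueField,
      IsScalarTower.algebraMap_apply B p.ResidueField P.ResidueField, θ₀.commutes,
      ← IsScalarTower.algebraMap_apply B W w.ResidueField,
      IsScalarTower.algebraMap_apply B p.ResidueField w.ResidueField]
    rfl
  have hkerθ : RingHom.ker θ = P := by
    rw [RingHom.ker_comp_of_injective _ θ₀.toRingHom.injective, Ideal.ker_algebraMap_residueField]
  have hkerι : RingHom.ker ι = w := by
    rw [RingHom.ker_comp_of_injective _ (algebraMap w.ResidueField K).injective, Ideal.ker_algebraMap_residueField]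
  have hroot : ((s.map fun b => θ S.x - ι b)).prod = 0 := by
    have h1 : Polynomial.eval₂ ι (θ S.x) (S.f.map (algebraMap B W)) = 0 := by
      rw [Polynomial.eval₂_map, ← hθB, ← Polynomial.hom_eval₂, ← Polynomial.aeval_def, S.hasMap.1, map_zero]
    rw [hs, Polynomial.eval₂_multiset_prod, Multiset.map_map] at h1
    rw [← h1]
    congr 1
    exact Multiset.map_congr rfl fun b _ => by simp
  obtain ⟨b, hbs, hb⟩ := Multiset.mem_map.1 (Multiset.prod_eq_zero_iff.1 hroot)
  rw [sub_eq_zero] at hb
  have hfb : Polynomial.aeval b S.f = 0 := by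
    rw [← Polynomial.aeval_map_algebraMap W, hs, Polynomial.coe_aeval_eq_eval, Polynomial.eval_multiset_prod,
      Multiset.map_map]
    exact Multiset.prod_eq_zero (Multiset.mem_map.2 ⟨b, hbs, by simp⟩)
  let a := Polynomial.aeval b S.g
  have hιa : ι a = θ (Polynomial.aeval S.x S.g) := by
    show ι (Polynomial.aeval b S.g) = _
    rw [Polynomial.aeval_def, Polynomial.aeval_def, Polynomial.hom_eval₂, Polynomial.hom_eval₂, hθB, hb]
  have hua : IsUnit (ι a) := hιa ▸ S.hasMap.2.map θ
  have ha : a ∉ w := fun h => hua.ne_zero (RingHom.mem_ker.1 (hkerι.symm ▸ h))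
  have hmap : S.P.HasMap (algebraMap W (Localization.Away a) b) := by
    constructor
    · rw [Polynomial.aeval_algebraMap_apply, hfb, map_zero]
    · rw [Polynomial.aeval_algebraMap_apply]
      exact IsLocalization.Away.algebraMap_isUnit a
  refine ⟨a, ha, (S.P.lift _ hmap).comp S.equivRing.toAlgHom, ?_⟩
  let ι' : Localization.Away a →+* K := IsLocalization.Away.lift a hua
  letI : Algebra B K := (θ.comp (algebraMap B C)).toAlgebra
  let θA : C →ₐ[B] K := ⟨θ, fun _ => rfl⟩
  let ιA : Localization.Away a →ₐ[B] K := ⟨ι', fun x => by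
    rw [IsScalarTower.algebraMap_apply B W (Localization.Away a)]
    show ι' (algebraMap W _ (algebraMap B W x)) = θ (algebraMap B C x)
    rw [IsLocalization.Away.lift_eq, ← RingHom.comp_apply, ← hθB]
    rfl⟩
  have heq : ιA.comp ((S.P.lift _ hmap).comp S.equivRing.toAlgHom) = θA := by
    have hx : S.equivRing S.x = S.P.X := by
      refine S.equivRing.symm.injective ?_
      rw [AlgEquiv.symm_apply_apply]
      simp [StandardEtalePresentation.equivRing]
    have h2 : (ιA.comp ((S.P.lift _ hmap).comp S.equivRing.toAlgHom)).comp S.equivRing.symm.toAlgHom =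
        θA.comp S.equivRing.symm.toAlgHom := by
      apply StandardEtalePair.hom_ext
      have hsymm : S.equivRing.symm S.P.X = S.x := by rw [← hx, AlgEquiv.symm_apply_apply]
      show ι' (S.P.lift _ hmap (S.equivRing (S.equivRing.symm S.P.X))) = θ (S.equivRing.symm S.P.X)
      rw [AlgEquiv.apply_symm_apply, hsymm, StandardEtalePair.lift_X, IsLocalization.Away.lift_eq]
      exact hb.symm
    refine AlgHom.ext fun z => ?_
    have := AlgHom.congr_fun h2 (S.equivRing z)
    simpa using this
  have hker : RingHom.ker ι' = w.map (algebraMap W (Localization.Away a)) := by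
    rw [← IsLocalization.map_under (Submonoid.powers a) (Localization.Away a) (RingHom.ker ι')]
    congr 1
    show Ideal.comap _ (RingHom.ker ι') = w
    rw [RingHom.comap_ker, show ι'.comp (algebraMap W (Localization.Away a)) = ι from IsLocalization.Away.lift_comp a hua,
      hkerι]
  rw [← hker, RingHom.comap_ker, show ι'.comp ((S.P.lift _ hmap).comp S.equivRing.toAlgHom).toRingHom = θ from
    congrArg AlgHom.toRingHom heq, hkerθ]

/-- The étale-local structure of a faithfully flat finitely presented algebra. -/
theorem exists_etale_finite_projective (B S₀ : Type u) [CommRing B] [CommRing S₀] [Algebra B S₀]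
    [Module.FaithfullyFlat B S₀] [Algebra.FinitePresentation B S₀] (p : Ideal B) [p.IsPrime] :
    ∃ (C : Type u) (_ : CommRing C) (_ : Algebra B C) (P : Ideal C) (_ : P.IsPrime) (T : Type u) (_ : CommRing T)
      (_ : Algebra C T) (j : S₀ →+* T), Algebra.IsStandardEtale B C ∧ P.comap (algebraMap B C) = p ∧
        Module.Finite C T ∧ Module.Projective C T ∧ Module.FaithfullyFlat C T ∧ Algebra.FinitePresentation C T ∧
        j.comp (algebraMap B S₀) = (algebraMap C T).comp (algebraMap B C) := by
  obtain ⟨S, _, _, hqf, hft, hSff, hSfp, ⟨σ⟩⟩ := Groth.Agent.S9432.result B S₀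
  obtain ⟨q, hq⟩ := PrimeSpectrum.comap_surjective_of_faithfullyFlat (A := B) (B := S) ⟨p, inferInstance⟩
  haveI : q.asIdeal.LiesOver p := ⟨(congrArg PrimeSpectrum.asIdeal hq).symm⟩
  obtain ⟨R', _, _, _, P', _, hP'p, e, he, M, _, hMP, -, heM, -, hfin, -⟩ :=
    Algebra.exists_etale_isIdempotentElem_forall_liesOver_eq p q.asIdeal
  let T := Localization.Away e
  haveI : Module.Finite R' T := hfin
  haveI : Algebra.FinitePresentation (R' ⊗[B] S) T := IsLocalization.Away.finitePresentation e
  haveI : Algebra.FinitePresentation R' T := Algebra.FinitePresentation.trans R' (R' ⊗[B] S) T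
  haveI : Module.Flat (R' ⊗[B] S) T := IsLocalization.flat T (Submonoid.powers e)
  haveI : Module.Flat R' T := Module.Flat.trans R' (R' ⊗[B] S) T
  haveI hdisj : (M.map (algebraMap (R' ⊗[B] S) T)).IsPrime :=
    IsLocalization.isPrime_of_isPrime_disjoint (Submonoid.powers e) _ _ ‹_›
      ((Ideal.disjoint_powers_iff_notMem_of_isPrime _).2 heM)
  obtain ⟨r, hr, hrff⟩ := PerfMor.exists_ff_away R' T ⟨_, hdisj⟩
  have hrP : r ∉ P' := fun hm => hr (by
    have h3 : Ideal.comap (algebraMap R' (R' ⊗[B] S)) M = P' := (hMP.over).symm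
    rw [IsScalarTower.algebraMap_eq R' (R' ⊗[B] S) T, ← Ideal.comap_comap]
    exact Ideal.comap_mono Ideal.le_comap_map (h3.symm ▸ hm))
  let R₁ := Localization.Away r
  let T₁ := R₁ ⊗[R'] T
  haveI : Module.FaithfullyFlat R₁ T₁ := hrff
  haveI : Module.FinitePresentation R₁ T₁ := Module.FinitePresentation.of_finite_of_finitePresentation R₁ T₁
  haveI : Module.Projective R₁ T₁ := Module.Flat.projective_of_finitePresentation
  haveI : Algebra.Etale R' R₁ := Algebra.Etale.of_isLocalizationAway r
  haveI : Algebra.Etale B R₁ := Algebra.Etale.comp B R' R₁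
  let P₁ := P'.map (algebraMap R' R₁)
  haveI : P₁.IsPrime := IsLocalization.isPrime_of_isPrime_disjoint (Submonoid.powers r) _ _ ‹_›
    ((Ideal.disjoint_powers_iff_notMem_of_isPrime _).2 hrP)
  obtain ⟨g, hg, hstd⟩ := Algebra.IsEtaleAt.exists_isStandardEtale (R := B) P₁
  haveI := hstd
  let C := Localization.Away g
  let P := P₁.map (algebraMap R₁ C)
  have hdg : Disjoint (Submonoid.powers g : Set R₁) P₁ := (Ideal.disjoint_powers_iff_notMem_of_isPrime _).2 hg
  haveI : P.IsPrime := IsLocalization.isPrime_of_isPrime_disjoint (Submonoid.powers g) _ _ ‹_› hdg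
  have hPp : P.comap (algebraMap B C) = p := by
    rw [IsScalarTower.algebraMap_eq B R₁ C, ← Ideal.comap_comap,
      IsScalarTower.algebraMap_eq B R' R₁, ← Ideal.comap_comap]
    show ((P.comap (algebraMap R₁ C)).comap (algebraMap R' R₁)).comap (algebraMap B R') = p
    rw [show P.comap (algebraMap R₁ C) = P₁ from IsLocalization.comap_map_of_isPrime_disjoint (Submonoid.powers g) C ‹_› hdg,
      show P₁.comap (algebraMap R' R₁) = P' from IsLocalization.comap_map_of_isPrime_disjoint (Submonoid.powers r) R₁ ‹_›
        ((Ideal.disjoint_powers_iff_notMem_of_isPrime _).2 hrP)]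
    exact hP'p.over.symm
  let T₂ := C ⊗[R₁] T₁
  let j₁ : S →+* T₁ := (Algebra.TensorProduct.includeRight (R := R') (A := R₁) (B := T)).toRingHom.comp
    ((algebraMap (R' ⊗[B] S) T).comp (Algebra.TensorProduct.includeRight (R := B) (A := R') (B := S)).toRingHom)
  let j : S₀ →+* T₂ := (Algebra.TensorProduct.includeRight (R := R₁) (A := C) (B := T₁)).toRingHom.comp
    (j₁.comp σ.toRingHom)
  refine ⟨C, inferInstance, inferInstance, P, inferInstance, T₂, inferInstance, inferInstance, j, hstd, hPp,
    inferInstance, inferInstance, inferInstance, inferInstance, RingHom.ext fun x => ?_⟩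
  simp only [j, RingHom.comp_apply, AlgHom.toRingHom_eq_coe, RingHom.coe_coe]
  have h1 : Algebra.TensorProduct.includeRight (R := B) (A := R') (B := S) (algebraMap B S x) =
      algebraMap R' (R' ⊗[B] S) (algebraMap B R' x) := by
    rw [AlgHom.commutes]
    rfl
  have h2 : j₁ (algebraMap B S x) = algebraMap R₁ T₁ (algebraMap B R₁ x) := by
    show Algebra.TensorProduct.includeRight (R := R') (A := R₁) (B := T) (algebraMap (R' ⊗[B] S) T
      (Algebra.TensorProduct.includeRight (R := B) (A := R') (algebraMap B S x))) = _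
    rw [h1, ← IsScalarTower.algebraMap_apply R' (R' ⊗[B] S) T, AlgHom.commutes,
      IsScalarTower.algebraMap_apply R' R₁ T₁, ← IsScalarTower.algebraMap_apply B R' R₁]
  rw [σ.commutes, h2, AlgHom.commutes, IsScalarTower.algebraMap_apply R₁ C T₂,
    ← IsScalarTower.algebraMap_apply B R₁ C]

end Groth.Agent.FppfRefine

namespace Groth.Agent.FppfRefine

/-- Near the image of a point a flat finitely presented algebra is faithfully flat; there it has the étale-local
structure of a finite projective algebra. -/
theorem exists_away_etale_finite_projective {B B' : Type u} [CommRing B] [CommRing B'] [Algebra B B']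
    [Module.Flat B B'] [Algebra.FinitePresentation B B'] (q : PrimeSpectrum B') :
    ∃ (h : B) (_ : h ∉ q.asIdeal.comap (algebraMap B B')) (C : Type u) (_ : CommRing C)
      (_ : Algebra (Localization.Away h) C) (P : Ideal C) (_ : P.IsPrime) (T : Type u) (_ : CommRing T)
      (_ : Algebra C T) (j : B' →+* T),
      Algebra.IsStandardEtale (Localization.Away h) C ∧
        (P.comap (algebraMap (Localization.Away h) C)).comap (algebraMap B (Localization.Away h)) =
          q.asIdeal.comap (algebraMap B B') ∧
        Module.Finite C T ∧ Module.Projective C T ∧ Module.FaithfullyFlat C T ∧ Algebra.FinitePresentation C T ∧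
        j.comp (algebraMap B B') = ((algebraMap C T).comp (algebraMap (Localization.Away h) C)).comp
          (algebraMap B (Localization.Away h)) := by
  obtain ⟨h, hh, hff⟩ := PerfMor.exists_ff_away B B' q
  let Bh := Localization.Away h
  haveI := hff
  have hd : Disjoint (Submonoid.powers h : Set B) (q.asIdeal.comap (algebraMap B B')) :=
    (Ideal.disjoint_powers_iff_notMem_of_isPrime _).2 hh
  haveI : ((q.asIdeal.comap (algebraMap B B')).map (algebraMap B Bh)).IsPrime :=
    IsLocalization.isPrime_of_isPrime_disjoint (Submonoid.powers h) _ _ inferInstance hd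
  obtain ⟨C, _, _, P, _, T, _, _, j, h1, h2, h3, h4, h5, h6, h7⟩ :=
    exists_etale_finite_projective Bh (Bh ⊗[B] B') ((q.asIdeal.comap (algebraMap B B')).map (algebraMap B Bh))
  refine ⟨h, hh, C, inferInstance, inferInstance, P, inferInstance, T, inferInstance, inferInstance,
    j.comp (Algebra.TensorProduct.includeRight (R := B) (A := Bh) (B := B')).toRingHom, h1, ?_, h3, h4, h5, h6, ?_⟩
  · rw [h2]
    exact IsLocalization.comap_map_of_isPrime_disjoint (Submonoid.powers h) Bh inferInstance hd
  · refine RingHom.ext fun x => ?_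
    have h8 := RingHom.congr_fun h7 (algebraMap B Bh x)
    simp only [RingHom.comp_apply, AlgHom.toRingHom_eq_coe, RingHom.coe_coe, AlgHom.commutes] at h8 ⊢
    rw [IsScalarTower.algebraMap_apply B Bh (Bh ⊗[B] B')]
    exact h8

set_option maxHeartbeats 1600000 in
/-- Finite free, then Zariski, then finite locally free. -/
theorem exists_tower {B B' : Type u} [CommRing B] [CommRing B'] [Algebra B B']
    [Module.Flat B B'] [Algebra.FinitePresentation B B'] (q : PrimeSpectrum B') :
    ∃ (b : B) (_ : b ∉ q.asIdeal.comap (algebraMap B B')) (W : Type u) (_ : CommRing W)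
      (_ : Algebra (Localization.Away b) W), Module.Finite (Localization.Away b) W ∧
      Module.Free (Localization.Away b) W ∧ Module.FaithfullyFlat (Localization.Away b) W ∧
      ∀ w : PrimeSpectrum W, ∃ (a : W) (_ : a ∉ w.asIdeal) (T : Type u) (_ : CommRing T)
        (_ : Algebra (Localization.Away a) T) (j : B' →+* T), Module.Finite (Localization.Away a) T ∧
        Module.FaithfullyFlat (Localization.Away a) T ∧ Algebra.FinitePresentation (Localization.Away a) T ∧
        j.comp (algebraMap B B') = ((algebraMap (Localization.Away a) T).comp (algebraMap W (Localization.Away a))).comp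
          ((algebraMap (Localization.Away b) W).comp (algebraMap B (Localization.Away b))) := by
  obtain ⟨h, hh, C, _, _, P, _, T, _, _, j, hC, hPq, hT1, hT2, hT3, hT4, hj⟩ :=
    exists_away_etale_finite_projective (B := B) q
  let Bh := Localization.Away h
  haveI := hC
  haveI := hT1
  haveI := hT3
  haveI := hT4
  obtain ⟨W, _, _, hWfin, hWfree, hWff, hW⟩ := exists_finite_free_cover (B := Bh) P
  haveI := hWfin
  haveI := hWfree
  haveI := hWff
  let ph : PrimeSpectrum Bh := ⟨P.comap (algebraMap Bh C), inferInstance⟩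
  -- the good locus
  let good : Set (PrimeSpectrum W) :=
    ⋃ a ∈ {a : W | Nonempty (C →ₐ[Bh] Localization.Away a)}, (PrimeSpectrum.basicOpen a : Set (PrimeSpectrum W))
  have hgood : IsOpen good := isOpen_biUnion fun a _ => (PrimeSpectrum.basicOpen a).2
  have hclosed : IsClosed (PrimeSpectrum.comap (algebraMap Bh W) '' goodᶜ) :=
    PrimeSpectrum.isClosedMap_comap_of_isIntegral (algebraMap Bh W)
      (algebraMap_isIntegral_iff.2 inferInstance) _ hgood.isClosed_compl
  have hph : ph ∉ PrimeSpectrum.comap (algebraMap Bh W) '' goodᶜ := by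
    rintro ⟨w, hwg, hw⟩
    obtain ⟨a, ha, γ, -⟩ := hW w.asIdeal (congrArg PrimeSpectrum.asIdeal hw)
    exact hwg (Set.mem_biUnion (x := a) ⟨γ⟩ ha)
  obtain ⟨_, ⟨_, ⟨c', rfl⟩, rfl⟩, hc'ph, hc'sub⟩ :=
    PrimeSpectrum.isBasis_basic_opens.exists_subset_of_mem_open hph hclosed.isOpen_compl
  obtain ⟨⟨c, _, n, rfl⟩, hc⟩ := IsLocalization.surj (Submonoid.powers h) c'
  have hcp : c ∉ q.asIdeal.comap (algebraMap B B') := fun hm => hc'ph (by
    rw [← hPq, Ideal.mem_comap, ← hc] at hm
    refine (ph.2.mem_or_mem hm).resolve_right fun hu => ph.2.ne_top (Ideal.eq_top_of_isUnit_mem _ hu ?_)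
    rw [map_pow]
    exact (IsLocalization.Away.algebraMap_isUnit h).pow n)
  refine ⟨h * c, fun hm => ((inferInstance : (q.asIdeal.comap (algebraMap B B')).IsPrime).mem_or_mem hm).elim hh hcp, ?_⟩
  let Bb := Localization.Away (h * c)
  have hub : IsUnit (algebraMap B Bb (h * c)) := IsLocalization.Away.algebraMap_isUnit (h * c)
  rw [map_mul] at hub
  letI : Algebra Bh Bb :=
    (IsLocalization.Away.lift (g := algebraMap B Bb) h (isUnit_of_mul_isUnit_left hub)).toAlgebra
  haveI : IsScalarTower B Bh Bb := IsScalarTower.of_algebraMap_eq fun x => (IsLocalization.Away.lift_eq h _ x).symm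
  refine ⟨Bb ⊗[Bh] W, inferInstance, inferInstance, inferInstance, inferInstance, inferInstance, fun w₂ => ?_⟩
  let ω : W →+* Bb ⊗[Bh] W := (Algebra.TensorProduct.includeRight (R := Bh) (A := Bb) (B := W)).toRingHom
  have hω : ∀ x : Bh, ω (algebraMap Bh W x) = algebraMap Bb (Bb ⊗[Bh] W) (algebraMap Bh Bb x) := fun x => by
    simp only [ω, AlgHom.toRingHom_eq_coe, RingHom.coe_coe, AlgHom.commutes]
    exact IsScalarTower.algebraMap_apply Bh Bb (Bb ⊗[Bh] W) x
  let w : PrimeSpectrum W := PrimeSpectrum.comap ω w₂
  have hwgood : w ∈ good := by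
    by_contra hbad
    refine hc'sub (?_ : PrimeSpectrum.comap (algebraMap Bh W) w ∈ PrimeSpectrum.basicOpen c') ⟨w, hbad, rfl⟩
    intro hm
    have h1 : ω (algebraMap Bh W c') ∈ w₂.asIdeal := hm
    rw [hω] at h1
    have hu : IsUnit (algebraMap Bh Bb c') := by
      refine isUnit_of_mul_isUnit_left (y := algebraMap Bh Bb (algebraMap B Bh (h ^ n))) ?_
      rw [← map_mul, hc, ← IsScalarTower.algebraMap_apply B Bh Bb]
      exact isUnit_of_mul_isUnit_right hub
    exact w₂.2.ne_top (Ideal.eq_top_of_isUnit_mem _ h1 (hu.map _))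
  obtain ⟨a, ⟨γ⟩, ha⟩ := Set.mem_iUnion₂.1 hwgood
  let Wa := Localization.Away (ω a)
  let θ : Localization.Away a →+* Wa := IsLocalization.Away.map (Localization.Away a) Wa ω a
  letI : Algebra C Wa := (θ.comp γ.toRingHom).toAlgebra
  refine ⟨ω a, ha, Wa ⊗[C] T, inferInstance, inferInstance,
    (Algebra.TensorProduct.includeRight (R := C) (A := Wa) (B := T)).toRingHom.comp j,
    inferInstance, inferInstance, inferInstance, RingHom.ext fun x => ?_⟩
  have h9 := RingHom.congr_fun hj x
  simp only [RingHom.comp_apply, AlgHom.toRingHom_eq_coe, RingHom.coe_coe] at h9 ⊢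
  rw [h9, AlgHom.commutes, IsScalarTower.algebraMap_apply C Wa (Wa ⊗[C] T)]
  congr 1
  rw [show algebraMap C Wa (algebraMap Bh C (algebraMap B Bh x)) = θ (γ (algebraMap Bh C (algebraMap B Bh x))) from rfl,
    γ.commutes, IsScalarTower.algebraMap_apply Bh W (Localization.Away a)]
  show IsLocalization.Away.map (Localization.Away a) Wa ω a (algebraMap W (Localization.Away a) _) = _
  rw [IsLocalization.Away.map, IsLocalization.map_eq, hω, ← IsScalarTower.algebraMap_apply B Bh Bb]

end Groth.Agent.FppfRefine
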