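import Mathlib
import Groth.Agent.FppfRefine.Local
import Groth.Agent.SrcDescent.Algebra

/-!
# An fppf cover of an affine scheme is dominated by a finite surjective morphism followed by a Zariski cover

Finite algebras over the members of a Zariski cover extend to a finite algebra over the base.
-/

set_option autoImplicit false
set_option linter.style.haveILetI false
set_option backward.isDefEq.respectTransparency.types false

universe u

open TensorProduct

namespace Groth.Agent.FppfRefine

/-- A finite algebra with surjective spectrum over `B[1/b]` extends to such an algebra over `B`. -/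
theorem exists_finite_extension {B : Type u} [CommRing B] (b : B) (W : Type u) [CommRing W]
    [Algebra (Localization.Away b) W] [Module.Finite (Localization.Away b) W]
    (hW : Function.Surjective (PrimeSpectrum.comap (algebraMap (Localization.Away b) W))) :
    ∃ (V : Type u) (_ : CommRing V) (_ : Algebra B V), Module.Finite B V ∧
      Function.Surjective (PrimeSpectrum.comap (algebraMap B V)) ∧
      ∃ φ : W →+* Localization.Away (algebraMap B V b),
        φ.comp ((algebraMap (Localization.Away b) W).comp (algebraMap B (Localization.Away b))) =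
          (algebraMap V (Localization.Away (algebraMap B V b))).comp (algebraMap B V) := by
  let Bb := Localization.Away b
  letI : Algebra B W := ((algebraMap Bb W).comp (algebraMap B Bb)).toAlgebra
  haveI : IsScalarTower B Bb W := IsScalarTower.of_algebraMap_eq fun _ => rfl
  have hub : IsUnit (algebraMap B W b) := (IsLocalization.Away.algebraMap_isUnit b).map (algebraMap Bb W)
  obtain ⟨s, hs⟩ := (inferInstance : Module.Finite Bb W).fg_top
  have hscale : ∀ x : W, ∃ n : ℕ, IsIntegral B (algebraMap B W b ^ n * x) := fun x => by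
    obtain ⟨⟨_, n, rfl⟩, hn⟩ := IsIntegral.exists_multiple_integral_of_isLocalization (Rₘ := Bb)
      (Submonoid.powers b) x (IsIntegral.of_finite Bb x)
    refine ⟨n, ?_⟩
    rwa [← map_pow, ← Algebra.smul_def]
  choose n hn using hscale
  let W₀ := Algebra.adjoin B ((fun x => algebraMap B W b ^ n x * x) '' (s : Set W))
  haveI : Module.Finite B W₀ := Algebra.finite_adjoin_of_finite_of_isIntegral (s.finite_toSet.image _) (by
    rintro _ ⟨x, -, rfl⟩
    exact hn x)
  have hgen : ∀ w : W, ∃ N : ℕ, algebraMap B W b ^ N * w ∈ W₀ := fun w => by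
    have hw : w ∈ Submodule.span Bb (s : Set W) := by rw [hs]; trivial
    induction hw using Submodule.span_induction with
    | mem x hx => exact ⟨n x, Algebra.subset_adjoin ⟨x, hx, rfl⟩⟩
    | zero => exact ⟨0, by simp⟩
    | add x y _ _ hx hy =>
      obtain ⟨N, hN⟩ := hx
      obtain ⟨M, hM⟩ := hy
      refine ⟨N + M, ?_⟩
      rw [mul_add, pow_add, mul_right_comm, mul_assoc (algebraMap B W b ^ N) _ y]
      exact W₀.add_mem (W₀.mul_mem hN (pow_mem (W₀.algebraMap_mem b) M))
        (W₀.mul_mem (pow_mem (W₀.algebraMap_mem b) N) hM)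
    | smul c x _ hx =>
      obtain ⟨N, hN⟩ := hx
      obtain ⟨⟨β, _, k, rfl⟩, hβ⟩ := IsLocalization.surj (Submonoid.powers b) c
      refine ⟨N + k, ?_⟩
      have : algebraMap B W b ^ (N + k) * c • x = algebraMap B W β * (algebraMap B W b ^ N * x) := by
        rw [Algebra.smul_def, IsScalarTower.algebraMap_apply B Bb W β, ← hβ, map_mul, map_pow, map_pow,
          ← IsScalarTower.algebraMap_apply B Bb W, pow_add]
        ring
      rw [this]
      exact W₀.mul_mem (W₀.algebraMap_mem β) hN
  let V := W₀ × (B ⧸ Ideal.span {b})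
  letI : Algebra V W := (W₀.val.toRingHom.comp (RingHom.fst W₀ (B ⧸ Ideal.span {b}))).toAlgebra
  haveI : IsScalarTower B V W := IsScalarTower.of_algebraMap_eq fun _ => rfl
  have hb0 : Ideal.Quotient.mk (Ideal.span {b}) b = 0 :=
    Ideal.Quotient.eq_zero_iff_mem.2 (Ideal.mem_span_singleton_self b)
  haveI : IsLocalization.Away (algebraMap B V b) W := by
    refine (isLocalization_iff _ _).2 ⟨?_, ?_, ?_⟩
    · rintro ⟨_, k, rfl⟩
      show IsUnit (algebraMap V W (algebraMap B V b ^ k))
      rw [map_pow, ← IsScalarTower.algebraMap_apply B V W]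
      exact hub.pow k
    · intro z
      obtain ⟨N, hN⟩ := hgen z
      refine ⟨(((⟨_, hN⟩ : W₀), 0), ⟨algebraMap B V b ^ N, N, rfl⟩), ?_⟩
      show z * algebraMap V W (algebraMap B V b ^ N) = algebraMap B W b ^ N * z
      rw [map_pow, ← IsScalarTower.algebraMap_apply B V W, mul_comm]
    · intro x y hxy
      have h1 : x.1 = y.1 := Subtype.ext hxy
      refine ⟨⟨algebraMap B V b ^ 1, 1, rfl⟩, ?_⟩
      show algebraMap B V b ^ 1 * x = algebraMap B V b ^ 1 * y
      rw [pow_one]
      refine Prod.ext ?_ ?_
      · show algebraMap B W₀ b * x.1 = algebraMap B W₀ b * y.1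
        rw [h1]
      · show Ideal.Quotient.mk _ b * x.2 = Ideal.Quotient.mk _ b * y.2
        rw [hb0, zero_mul, zero_mul]
  refine ⟨V, inferInstance, inferInstance, inferInstance, fun p => ?_,
    (IsLocalization.algEquiv (Submonoid.powers (algebraMap B V b)) W (Localization.Away (algebraMap B V b))).toRingHom,
    RingHom.ext fun x => ?_⟩
  · by_cases hbp : b ∈ p.asIdeal
    · have hle : RingHom.ker (Ideal.Quotient.mk (Ideal.span {b})) ≤ p.asIdeal := by
        rwa [Ideal.mk_ker, Ideal.span_singleton_le_iff_mem]
      let r : PrimeSpectrum (B ⧸ Ideal.span {b}) :=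
        ⟨_, Ideal.map_isPrime_of_surjective Ideal.Quotient.mk_surjective hle⟩
      refine ⟨PrimeSpectrum.comap (RingHom.snd W₀ (B ⧸ Ideal.span {b})) r, PrimeSpectrum.ext ?_⟩
      show (p.asIdeal.map (Ideal.Quotient.mk (Ideal.span {b}))).comap (Ideal.Quotient.mk (Ideal.span {b})) = p.asIdeal
      rw [Ideal.comap_map_of_surjective' _ Ideal.Quotient.mk_surjective, sup_eq_left.2 hle]
    · obtain ⟨q, hq⟩ : p ∈ Set.range (PrimeSpectrum.comap (algebraMap B Bb)) := by
        rw [PrimeSpectrum.localization_away_comap_range Bb b]
        exact hbp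
      obtain ⟨w, hw⟩ := hW q
      exact ⟨PrimeSpectrum.comap (algebraMap V W) w, by rw [← hq, ← hw]; rfl⟩
  · exact (IsLocalization.algEquiv (Submonoid.powers (algebraMap B V b)) W
      (Localization.Away (algebraMap B V b))).commutes (algebraMap B V x)

/-- Finite algebras with surjective spectra, given Zariski locally and with a property inherited by algebras over
them, give one finite algebra with surjective spectrum having the property Zariski locally. -/
theorem exists_finite_cover {B : Type u} [CommRing B]
    (P : ∀ (R : Type u) [CommRing R], (B →+* R) → Prop)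
    (hP : ∀ (R R' : Type u) [CommRing R] [CommRing R'] (f : B →+* R) (g : R →+* R'), P R f → P R' (g.comp f))
    (h : ∀ p : PrimeSpectrum B, ∃ (b : B) (_ : b ∉ p.asIdeal) (W : Type u) (_ : CommRing W)
      (_ : Algebra (Localization.Away b) W), Module.Finite (Localization.Away b) W ∧
      Function.Surjective (PrimeSpectrum.comap (algebraMap (Localization.Away b) W)) ∧
      P W ((algebraMap (Localization.Away b) W).comp (algebraMap B (Localization.Away b)))) :
    ∃ (Q : Type u) (_ : CommRing Q) (_ : Algebra B Q), Module.Finite B Q ∧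
      Function.Surjective (PrimeSpectrum.comap (algebraMap B Q)) ∧
      ∀ q : PrimeSpectrum Q, ∃ (a : Q) (_ : a ∉ q.asIdeal),
        P (Localization.Away a) ((algebraMap Q (Localization.Away a)).comp (algebraMap B Q)) := by
  classical
  let s : Set B := {b | ∃ (V : Type u) (_ : CommRing V) (_ : Algebra B V), Module.Finite B V ∧
    Function.Surjective (PrimeSpectrum.comap (algebraMap B V)) ∧
    P (Localization.Away (algebraMap B V b))
      ((algebraMap V (Localization.Away (algebraMap B V b))).comp (algebraMap B V))}
  have hs : Ideal.span s = ⊤ := by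
    by_contra hne
    obtain ⟨m, hm, hle⟩ := Ideal.exists_le_maximal _ hne
    obtain ⟨b, hb, W, _, _, hfin, hsurj, hPW⟩ := h ⟨m, hm.isPrime⟩
    haveI := hfin
    obtain ⟨V, _, _, h1, h2, φ, hφ⟩ := exists_finite_extension b W hsurj
    exact hb (hle (Ideal.subset_span ⟨V, inferInstance, inferInstance, h1, h2, hφ ▸ hP _ _ _ φ hPW⟩))
  obtain ⟨t, hts, ht⟩ := Submodule.mem_span_finite_of_mem_span ((Ideal.eq_top_iff_one _).1 hs)
  have key : ∀ t : Finset B, ↑t ⊆ s → ∃ (Q : Type u) (_ : CommRing Q) (_ : Algebra B Q), Module.Finite B Q ∧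
      Function.Surjective (PrimeSpectrum.comap (algebraMap B Q)) ∧
      ∀ b ∈ t, P (Localization.Away (algebraMap B Q b))
        ((algebraMap Q (Localization.Away (algebraMap B Q b))).comp (algebraMap B Q)) := by
    intro t
    induction t using Finset.induction with
    | empty =>
      exact fun _ => ⟨B, inferInstance, inferInstance, inferInstance,
        fun p => ⟨p, by simp⟩, fun b hb => absurd hb (Finset.notMem_empty b)⟩
    | insert b t _ ih =>
      intro hbt
      rw [Finset.coe_insert, Set.insert_subset_iff] at hbt
      obtain ⟨Q, _, _, hQ1, hQ2, hQ3⟩ := ih hbt.2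
      obtain ⟨V, _, _, hV1, hV2, hV3⟩ := hbt.1
      haveI := hQ1
      haveI := hV1
      have trans : ∀ {R : Type u} [CommRing R] [Algebra B R] (g : R →+* Q ⊗[B] V) (c : B),
          g.comp (algebraMap B R) = algebraMap B (Q ⊗[B] V) →
          P (Localization.Away (algebraMap B R c))
            ((algebraMap R (Localization.Away (algebraMap B R c))).comp (algebraMap B R)) →
          P (Localization.Away (algebraMap B (Q ⊗[B] V) c))
            ((algebraMap (Q ⊗[B] V) (Localization.Away (algebraMap B (Q ⊗[B] V) c))).comp
              (algebraMap B (Q ⊗[B] V))) := by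
        intro R _ _ g c hg hPc
        let θ : Localization.Away (algebraMap B R c) →+* Localization.Away (algebraMap B (Q ⊗[B] V) c) :=
          IsLocalization.Away.lift (g := (algebraMap (Q ⊗[B] V) _).comp g) (algebraMap B R c) (by
            rw [RingHom.comp_apply, ← RingHom.comp_apply g, hg]
            exact IsLocalization.Away.algebraMap_isUnit _)
        have heq : θ.comp ((algebraMap R _).comp (algebraMap B R)) =
            (algebraMap (Q ⊗[B] V) (Localization.Away (algebraMap B (Q ⊗[B] V) c))).comp
              (algebraMap B (Q ⊗[B] V)) := RingHom.ext fun x => by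
          simp only [θ, RingHom.comp_apply, IsLocalization.Away.lift_eq]
          rw [← RingHom.comp_apply g, hg]
        exact heq ▸ hP _ _ _ θ hPc
      refine ⟨Q ⊗[B] V, inferInstance, inferInstance, Module.Finite.trans Q _, fun p => ?_, ?_⟩
      · obtain ⟨q, hq⟩ := hQ2 p
        obtain ⟨r, hr⟩ := SrcDescent.comap_surjective_includeLeft (A₀ := B) (A₁ := Q) (B₀ := V) (fun x => hV2 _) q
        exact ⟨r, by rw [← hq, ← hr, IsScalarTower.algebraMap_eq B Q (Q ⊗[B] V), PrimeSpectrum.comap_comp]; rfl⟩
      · intro c hc
        rcases Finset.mem_insert.1 hc with rfl | hc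
        · exact trans (Algebra.TensorProduct.includeRight (R := B) (A := Q) (B := V)).toRingHom c
            (RingHom.ext fun x => (Algebra.TensorProduct.includeRight (R := B) (A := Q) (B := V)).commutes x) hV3
        · exact trans (algebraMap Q (Q ⊗[B] V)) c (IsScalarTower.algebraMap_eq B Q (Q ⊗[B] V)).symm (hQ3 c hc)
  obtain ⟨Q, _, _, hQ1, hQ2, hQ3⟩ := key t hts
  refine ⟨Q, inferInstance, inferInstance, hQ1, hQ2, fun q => ?_⟩
  obtain ⟨b, hbt, hb⟩ : ∃ b ∈ t, algebraMap B Q b ∉ q.asIdeal := by
    by_contra hall
    push_neg at hall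
    exact (PrimeSpectrum.comap (algebraMap B Q) q).2.ne_top
      ((Ideal.eq_top_iff_one _).2 ((Submodule.span_le (p := (PrimeSpectrum.comap (algebraMap B Q) q).asIdeal)).2 hall ht))
  exact ⟨_, hb, hQ3 b hbt⟩

set_option maxHeartbeats 1600000 in
/-- A family of flat finitely presented algebras hitting every prime is dominated, Zariski locally, by a finite
algebra with surjective spectrum. -/
theorem exists_finite_cover_of_fppf {B : Type u} [CommRing B] {ι : Type*} (B' : ι → Type u) [∀ i, CommRing (B' i)]
    [∀ i, Algebra B (B' i)] (hfl : ∀ i, Module.Flat B (B' i)) (hfp : ∀ i, Algebra.FinitePresentation B (B' i))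
    (hcov : ∀ p : PrimeSpectrum B, ∃ i, ∃ q : PrimeSpectrum (B' i), PrimeSpectrum.comap (algebraMap B (B' i)) q = p) :
    ∃ (Q : Type u) (_ : CommRing Q) (_ : Algebra B Q), Module.Finite B Q ∧
      Function.Surjective (PrimeSpectrum.comap (algebraMap B Q)) ∧
      ∀ q : PrimeSpectrum Q, ∃ (a : Q) (_ : a ∉ q.asIdeal) (i : ι) (j : B' i →+* Localization.Away a),
        j.comp (algebraMap B (B' i)) = (algebraMap Q (Localization.Away a)).comp (algebraMap B Q) := by
  let P₁ : ∀ (R : Type u) [CommRing R], (B →+* R) → Prop := fun R _ f =>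
    ∀ w : PrimeSpectrum R, ∃ (a : R) (_ : a ∉ w.asIdeal) (T : Type u) (_ : CommRing T)
      (_ : Algebra (Localization.Away a) T) (i : ι) (j : B' i →+* T), Module.Finite (Localization.Away a) T ∧
      Function.Surjective (PrimeSpectrum.comap (algebraMap (Localization.Away a) T)) ∧
      j.comp (algebraMap B (B' i)) =
        ((algebraMap (Localization.Away a) T).comp (algebraMap R (Localization.Away a))).comp f
  have push : ∀ {R R' : Type u} [CommRing R] [CommRing R'] (f : B →+* R) (g : R →+* R') {a : R} {a' : R'}
      (θ : Localization.Away a →+* Localization.Away a'),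
      θ.comp (algebraMap R (Localization.Away a)) = (algebraMap R' (Localization.Away a')).comp g →
      ∀ (T : Type u) [CommRing T] [Algebra (Localization.Away a) T] {i : ι} (j : B' i →+* T),
      Module.Finite (Localization.Away a) T →
      Function.Surjective (PrimeSpectrum.comap (algebraMap (Localization.Away a) T)) →
      j.comp (algebraMap B (B' i)) =
        ((algebraMap (Localization.Away a) T).comp (algebraMap R (Localization.Away a))).comp f →
      ∃ (T' : Type u) (_ : CommRing T') (_ : Algebra (Localization.Away a') T') (j' : B' i →+* T'),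
        Module.Finite (Localization.Away a') T' ∧
        Function.Surjective (PrimeSpectrum.comap (algebraMap (Localization.Away a') T')) ∧
        j'.comp (algebraMap B (B' i)) =
          ((algebraMap (Localization.Away a') T').comp (algebraMap R' (Localization.Away a'))).comp (g.comp f) := by
    intro R R' _ _ f g a a' θ hθ T _ _ i j h1 h2 h3
    letI : Algebra (Localization.Away a) (Localization.Away a') := θ.toAlgebra
    haveI := h1
    refine ⟨Localization.Away a' ⊗[Localization.Away a] T, inferInstance, inferInstance,
      (Algebra.TensorProduct.includeRight (R := Localization.Away a) (A := Localization.Away a') (B := T)).toRingHom.comp j,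
      inferInstance, SrcDescent.comap_surjective_includeLeft (fun x => h2 _), RingHom.ext fun x => ?_⟩
    have h4 := RingHom.congr_fun h3 x
    have h5 := RingHom.congr_fun hθ (f x)
    simp only [RingHom.comp_apply, AlgHom.toRingHom_eq_coe, RingHom.coe_coe] at h4 h5 ⊢
    rw [h4, AlgHom.commutes, IsScalarTower.algebraMap_apply (Localization.Away a) (Localization.Away a') _,
      show algebraMap (Localization.Away a) (Localization.Away a') (algebraMap R (Localization.Away a) (f x)) =
        θ (algebraMap R (Localization.Away a) (f x)) from rfl, h5]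
  obtain ⟨Q, _, _, hQ1, hQ2, hQ3⟩ := exists_finite_cover (B := B) P₁
    (fun R R' _ _ f g hPf w' => by
      obtain ⟨a, ha, T, _, _, i, j, h1, h2, h3⟩ := hPf (PrimeSpectrum.comap g w')
      obtain ⟨T', _, _, j', h1', h2', h3'⟩ := push f g (a' := g a)
        (IsLocalization.Away.map (Localization.Away a) (Localization.Away (g a)) g a)
        (IsLocalization.map_comp _) T j h1 h2 h3
      exact ⟨g a, ha, T', inferInstance, inferInstance, i, j', h1', h2', h3'⟩)
    (fun p => by
      obtain ⟨i, q, hq⟩ := hcov p
      haveI := hfl i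
      haveI := hfp i
      obtain ⟨b, hb, W, _, _, hfin, -, hff, hW⟩ := exists_tower (B := B) q
      haveI := hff
      refine ⟨b, hq ▸ hb, W, inferInstance, inferInstance, hfin, PrimeSpectrum.comap_surjective_of_faithfullyFlat,
        fun w => ?_⟩
      obtain ⟨a, ha, T, _, _, j, hT1, hT2, -, hT3⟩ := hW w
      haveI := hT2
      exact ⟨a, ha, T, inferInstance, inferInstance, i, j, hT1, PrimeSpectrum.comap_surjective_of_faithfullyFlat, hT3⟩)
  let P₂ : ∀ (R : Type u) [CommRing R], (Q →+* R) → Prop := fun R _ f =>
    ∃ (i : ι) (j : B' i →+* R), j.comp (algebraMap B (B' i)) = f.comp (algebraMap B Q)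
  obtain ⟨Q₂, _, _, hQ₂1, hQ₂2, hQ₂3⟩ := exists_finite_cover (B := Q) P₂
    (fun R R' _ _ f g ⟨i, j, hj⟩ => ⟨i, g.comp j, by rw [RingHom.comp_assoc, hj, RingHom.comp_assoc]⟩)
    (fun q => by
      obtain ⟨a, ha, hPa⟩ := hQ3 q
      let A := Localization.Away a
      obtain ⟨w, hw⟩ : q ∈ Set.range (PrimeSpectrum.comap (algebraMap Q A)) := by
        rw [PrimeSpectrum.localization_away_comap_range A a]
        exact ha
      obtain ⟨a', ha', T, _, _, i, j, h1, h2, h3⟩ := hPa w
      obtain ⟨⟨c, _, n, rfl⟩, hc⟩ := IsLocalization.surj (Submonoid.powers a) a'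
      have hac : a * c ∉ q.asIdeal := fun hm => by
        rcases q.2.mem_or_mem hm with hm | hm
        · exact ha hm
        · rw [← hw, PrimeSpectrum.comap_asIdeal, Ideal.mem_comap, ← hc] at hm
          refine ha' ((w.2.mem_or_mem hm).resolve_right fun hu => w.2.ne_top (Ideal.eq_top_of_isUnit_mem _ hu ?_))
          rw [map_pow]
          exact (IsLocalization.Away.algebraMap_isUnit a).pow n
      let Qb := Localization.Away (a * c)
      have hub : IsUnit (algebraMap Q Qb (a * c)) := IsLocalization.Away.algebraMap_isUnit (a * c)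
      rw [map_mul] at hub
      let g : A →+* Qb := IsLocalization.Away.lift (g := algebraMap Q Qb) a (isUnit_of_mul_isUnit_left hub)
      have hga' : IsUnit (g a') := by
        refine isUnit_of_mul_isUnit_left (y := g (algebraMap Q A (a ^ n))) ?_
        rw [← map_mul, hc, IsLocalization.Away.lift_eq]
        exact isUnit_of_mul_isUnit_right hub
      let θ : Localization.Away a' →+* Qb := IsLocalization.Away.lift (g := g) a' hga'
      letI : Algebra (Localization.Away a') Qb := θ.toAlgebra
      haveI := h1
      refine ⟨a * c, hac, Qb ⊗[Localization.Away a'] T, inferInstance, inferInstance, inferInstance,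
        SrcDescent.comap_surjective_includeLeft (fun x => h2 _), i,
        (Algebra.TensorProduct.includeRight (R := Localization.Away a') (A := Qb) (B := T)).toRingHom.comp j,
        RingHom.ext fun x => ?_⟩
      have h4 := RingHom.congr_fun h3 x
      simp only [RingHom.comp_apply, AlgHom.toRingHom_eq_coe, RingHom.coe_coe] at h4 ⊢
      rw [h4, AlgHom.commutes, IsScalarTower.algebraMap_apply (Localization.Away a') Qb (Qb ⊗[Localization.Away a'] T)]
      congr 1
      show θ _ = _
      rw [IsLocalization.Away.lift_eq, IsLocalization.Away.lift_eq])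
  letI : Algebra B Q₂ := ((algebraMap Q Q₂).comp (algebraMap B Q)).toAlgebra
  haveI : IsScalarTower B Q Q₂ := IsScalarTower.of_algebraMap_eq fun _ => rfl
  haveI := hQ1
  haveI := hQ₂1
  refine ⟨Q₂, inferInstance, inferInstance, Module.Finite.trans Q Q₂, ?_, fun q => ?_⟩
  · rw [IsScalarTower.algebraMap_eq B Q Q₂, PrimeSpectrum.comap_comp]
    exact hQ2.comp hQ₂2
  · obtain ⟨a, ha, i, j, hj⟩ := hQ₂3 q
    exact ⟨a, ha, i, j, by rw [hj, RingHom.comp_assoc]; rfl⟩

end Groth.Agent.FppfRefine
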