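import Mathlib
import Groth.Agent.FppfRefine.Local
import Groth.Prelude.Def_Mor2

/-!
# Finite locally free morphisms between affine schemes
-/

set_option autoImplicit false
set_option linter.style.haveILetI false
set_option backward.isDefEq.respectTransparency.types false

universe u

open CategoryTheory AlgebraicGeometry

namespace Groth.Agent.FppfRefine

theorem specMap_props (R W : Type u) [CommRing R] [CommRing W] [Algebra R W] [Module.Finite R W]
    [Module.FaithfullyFlat R W] [Algebra.FinitePresentation R W] :
    Surjective (Spec.map (CommRingCat.ofHom (algebraMap R W))) ∧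
      IsFinite (Spec.map (CommRingCat.ofHom (algebraMap R W))) ∧
      Flat (Spec.map (CommRingCat.ofHom (algebraMap R W))) ∧
      LocallyOfFinitePresentation (Spec.map (CommRingCat.ofHom (algebraMap R W))) := by
  obtain ⟨h1, h2⟩ := (flat_and_surjective_SpecMap_iff (CommRingCat.ofHom (algebraMap R W))).2
    ((RingHom.faithfullyFlat_algebraMap_iff).2 inferInstance)
  refine ⟨h2, ?_, h1, ?_⟩
  · rw [IsFinite.SpecMap_iff, CommRingCat.hom_ofHom, RingHom.finite_algebraMap]
    infer_instance
  · rw [HasRingHomProperty.Spec_iff (P := @LocallyOfFinitePresentation), CommRingCat.hom_ofHom,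
      RingHom.finitePresentation_algebraMap]
    infer_instance

theorem finitePresentation_of_free (R W : Type u) [CommRing R] [CommRing W] [Algebra R W] [Module.Finite R W]
    [Module.Free R W] : Algebra.FinitePresentation R W :=
  haveI : Module.FinitePresentation R W := Module.finitePresentation_of_projective R W
  Algebra.FinitePresentation.of_finitePresentation R W

end Groth.Agent.FppfRefine
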